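import Groth.Agent.InjHull.Matlis
import Mathlib.RingTheory.Ideal.MinimalPrime.Localization
import Mathlib.RingTheory.Localization.Submodule
import Mathlib.Algebra.Module.LocalizedModule.Submodule

/-!
# Locally nilpotent Frobenius actions on Artinian modules over complete local rings are nilpotent

The annihilators of the quotients of the kernel filtration increase to a radical ideal `I`, which kills
`M / K N`; at a minimal prime of `I` the Matlis dual has finite length, so `I` is the unit ideal.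
-/

set_option autoImplicit false

universe u

open IsLocalRing

namespace Groth.Agent.HSLNil

section Chain

variable {R M : Type u} [CommRing R] [AddCommGroup M] [Module R M] {p : ℕ} (φ : M →+ M)
  (hφ : ∀ (a : R) (x : M), φ (a • x) = a ^ p • φ x)

include hφ in
lemma iterate_smul (n : ℕ) (a : R) (x : M) : φ^[n] (a • x) = a ^ p ^ n • φ^[n] x := by
  induction n generalizing a x with
  | zero => simp
  | succ n ih =>
    rw [Function.iterate_succ_apply, Function.iterate_succ_apply, hφ, ih, ← pow_mul, ← pow_succ']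

/-- The kernel of an iterate. -/
def K (n : ℕ) : Submodule R M where
  carrier := {x | φ^[n] x = 0}
  add_mem' {x y} hx hy := by
    show φ^[n] (x + y) = 0
    rw [iterate_map_add, hx, hy, add_zero]
  zero_mem' := iterate_map_zero φ n
  smul_mem' a x hx := by
    show φ^[n] (a • x) = 0
    rw [iterate_smul φ hφ, show φ^[n] x = 0 from hx, smul_zero]

lemma mem_K {n : ℕ} {x : M} : x ∈ K φ hφ n ↔ φ^[n] x = 0 := Iff.rfl

lemma apply_mem_iff {n : ℕ} {x : M} : φ x ∈ K φ hφ n ↔ x ∈ K φ hφ (n + 1) := by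
  rw [mem_K, mem_K, Function.iterate_succ_apply]

lemma K_mono {n m : ℕ} (h : n ≤ m) : K φ hφ n ≤ K φ hφ m := by
  intro x hx
  obtain ⟨d, rfl⟩ := Nat.exists_eq_add_of_le h
  rw [mem_K, add_comm, Function.iterate_add_apply, show φ^[n] x = 0 from hx, iterate_map_zero]

/-- The annihilator of a step of the kernel filtration. -/
def ann (n : ℕ) : Ideal R := (K φ hφ n).colon (K φ hφ (n + 1))

lemma mem_ann {n : ℕ} {a : R} : a ∈ ann φ hφ n ↔ ∀ x ∈ K φ hφ (n + 1), a • x ∈ K φ hφ n :=
  Submodule.mem_colon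

lemma ann_step (hp : 2 ≤ p) {n : ℕ} : ann φ hφ n ≤ ann φ hφ (n + 1) := by
  intro a ha
  rw [mem_ann] at ha ⊢
  intro x hx
  rw [← apply_mem_iff, hφ, show a ^ p = a ^ (p - 1) * a by
    rw [← pow_succ, Nat.sub_add_cancel (show 1 ≤ p by omega)], mul_smul]
  exact Submodule.smul_mem _ _ (ha _ ((apply_mem_iff φ hφ).mpr hx))

lemma mem_of_pow_p {n : ℕ} {a : R} (ha : a ^ p ∈ ann φ hφ n) : a ∈ ann φ hφ (n + 1) := by
  rw [mem_ann] at ha ⊢
  intro x hx
  rw [← apply_mem_iff, hφ]
  exact ha _ ((apply_mem_iff φ hφ).mpr hx)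

lemma kills {N : ℕ} (hp : 2 ≤ p) (hN : ann φ hφ (N + 1) = ann φ hφ N) {a : R}
    (ha : a ∈ ann φ hφ N) (j : ℕ) : ∀ x ∈ K φ hφ (N + 1 + j), a • x ∈ K φ hφ (N + 1) := by
  induction j with
  | zero => intro x hx; exact Submodule.smul_mem _ _ hx
  | succ j ih =>
    intro x hx
    rw [← apply_mem_iff, hφ, show a ^ p = a ^ (p - 2) * (a * a) by
      rw [← pow_two, ← pow_add, Nat.sub_add_cancel hp], mul_smul, mul_smul]
    refine Submodule.smul_mem _ _ ?_
    exact (mem_ann φ hφ).mp ha _ (ih _ ((apply_mem_iff φ hφ).mpr hx))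

end Chain

/-- A finite module killed by the maximal ideal is Artinian. -/
lemma isArtinian_of_maximal_smul {S : Type u} [CommRing S] [IsLocalRing S] [IsNoetherianRing S]
    (N : Type u) [AddCommGroup N] [Module S N] [Module.Finite S N]
    (h : ∀ a ∈ maximalIdeal S, ∀ y : N, a • y = 0) : IsArtinian S N := by
  rw [InjHull.Matlis.isArtinian_iff]
  refine ⟨fun y => ⟨1, fun a ha => h a (by rwa [pow_one] at ha) y⟩, ?_⟩
  have : Module.Finite S ↥(LocCoh.torsionBy (maximalIdeal S) N) := inferInstance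
  exact Module.Finite.of_restrictScalars_finite S _ _

variable {R : Type u} [CommRing R] [IsLocalRing R] [IsNoetherianRing R]
  [IsAdicComplete (maximalIdeal R) R]

/-- Locally nilpotent implies nilpotent. -/
theorem exists_iterate_eq_zero {M : Type u} [AddCommGroup M] [Module R M] [IsArtinian R M] {p : ℕ}
    (hp : 2 ≤ p) (φ : M →+ M) (hφ : ∀ (a : R) (x : M), φ (a • x) = a ^ p • φ x)
    (hloc : ∀ x : M, ∃ n : ℕ, φ^[n] x = 0) : ∃ n : ℕ, ∀ x : M, φ^[n] x = 0 := by
  classical
  have hmono : Monotone (ann φ hφ) := monotone_nat_of_le_succ fun n => ann_step φ hφ hp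
  obtain ⟨N₀, hN₀⟩ := monotone_stabilizes_iff_noetherian.mpr inferInstance ⟨_, hmono⟩
  have hst : ∀ n, N₀ ≤ n → ann φ hφ n = ann φ hφ N₀ := fun n hn => (hN₀ n hn).symm
  set I := ann φ hφ N₀ with hI
  set N := N₀ + 1 with hNdef
  have hkill : ∀ a ∈ I, ∀ x : M, a • x ∈ K φ hφ N := by
    intro a ha x
    obtain ⟨n, hn⟩ := hloc x
    exact kills φ hφ hp (hst _ (Nat.le_succ _)) ha n x (K_mono φ hφ (by omega) (show x ∈ K φ hφ n from hn))
  by_cases htop : I = ⊤
  · refine ⟨N, fun x => ?_⟩
    have := hkill 1 (by rw [htop]; exact Submodule.mem_top) x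
    rwa [one_smul] at this
  exfalso
  have hrad : ∀ a (k : ℕ), a ^ p ^ k ∈ I → a ∈ I := by
    intro a k
    induction k generalizing a with
    | zero => simp
    | succ k ih =>
      intro h
      have h' : (a ^ p ^ k) ^ p ∈ ann φ hφ N₀ := by rwa [← pow_mul, ← pow_succ]
      have := mem_of_pow_p φ hφ h'
      rw [hst _ (Nat.le_succ _)] at this
      exact ih a this
  have hIrad : I.IsRadical := fun a ⟨k, hk⟩ =>
    hrad a k (Ideal.pow_mem_of_pow_mem _ hk (Nat.lt_pow_self (by omega)).le)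
  obtain ⟨P, hP⟩ := Ideal.nonempty_minimalPrimes htop
  have : P.IsPrime := hP.1.1
  obtain ⟨E, _, _, f, hf⟩ := InjHull.Basic.exists_isInjectiveHull R (ResidueField R)
  obtain ⟨hfin, -⟩ := InjHull.Matlis.finite_dual_artinian hf M
  let D : ℕ → Submodule R (M →ₗ[R] E) := fun j =>
    { carrier := {g | ∀ x ∈ K φ hφ (N + j), g x = 0}
      add_mem' := fun {g h} hg hh x hx => by rw [LinearMap.add_apply, hg x hx, hh x hx, add_zero]
      zero_mem' := fun x _ => rfl
      smul_mem' := fun c g hg x hx => by rw [LinearMap.smul_apply, hg x hx, smul_zero] }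
  have hDanti : ∀ i j, i ≤ j → D j ≤ D i := fun i j hij g hg x hx =>
    hg x (K_mono φ hφ (by omega) hx)
  let ℓ := LocalizedModule.mkLinearMap P.primeCompl (M →ₗ[R] E)
  let L : ℕ → Submodule (Localization.AtPrime P) (LocalizedModule P.primeCompl (M →ₗ[R] E)) :=
    fun j => (D j).localized' (Localization.AtPrime P) P.primeCompl ℓ
  have hL : ∀ i j, i ≤ j → L j ≤ L i := by
    rintro i j hij y ⟨g, hg, s, rfl⟩
    exact ⟨g, hDanti i j hij hg, s, rfl⟩
  -- the localisation is killed by the maximal ideal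
  have hmax : ∀ a ∈ P, ∃ s ∉ P, s * a ∈ I := by
    intro a ha
    have hmap := Ideal.mem_map_of_mem (algebraMap R (Localization.AtPrime P)) ha
    have hr := IsLocalization.AtPrime.radical_map_of_mem_minimalPrimes (Localization.AtPrime P) P I hP
    rw [← hr] at hmap
    obtain ⟨k, hk⟩ := hmap
    rw [← map_pow, IsLocalization.algebraMap_mem_map_algebraMap_iff P.primeCompl] at hk
    obtain ⟨s, hs, hsk⟩ := hk
    refine ⟨s, hs, hIrad ⟨k + 1, ?_⟩⟩
    rw [mul_pow, pow_succ' s, mul_assoc, mul_comm (s ^ k), ← mul_assoc, pow_succ a, ← mul_assoc]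
    exact I.mul_mem_right _ (I.mul_mem_right _ hsk)
  have hart : IsArtinian (Localization.AtPrime P) ↥(L 0) := by
    have hzero : ∀ a ∈ maximalIdeal (Localization.AtPrime P), ∀ y : ↥(L 0), a • y = 0 := by
      rintro a ha ⟨y, g, hg, t, rfl⟩
      refine Subtype.ext ?_
      obtain ⟨b, u, rfl⟩ := IsLocalization.exists_mk'_eq P.primeCompl a
      have hb : b ∈ P := (IsLocalization.AtPrime.mk'_mem_maximal_iff (Localization.AtPrime P) P b u).mp ha
      obtain ⟨s, hs, hsb⟩ := hmax b hb
      show IsLocalization.mk' _ b u • IsLocalizedModule.mk' ℓ g t = 0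
      rw [IsLocalizedModule.mk'_smul_mk', IsLocalizedModule.mk'_eq_zero']
      refine ⟨⟨s, hs⟩, ?_⟩
      refine LinearMap.ext fun x => ?_
      show s • (b • g) x = 0
      rw [LinearMap.smul_apply, ← map_smul, ← map_smul, ← mul_smul]
      exact hg _ (by simpa using hkill _ hsb x)
    have : Module.Finite (Localization.AtPrime P) (LocalizedModule P.primeCompl (M →ₗ[R] E)) :=
      Module.Finite.of_isLocalizedModule P.primeCompl ℓ
    have : IsNoetherianRing (Localization.AtPrime P) :=
      IsLocalization.isNoetherianRing P.primeCompl _ inferInstance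
    have hfin0 : Module.Finite (Localization.AtPrime P) ↥(L 0) := inferInstance
    exact isArtinian_of_maximal_smul ↥(L 0) hzero
  let L' : ℕ → Submodule (Localization.AtPrime P) ↥(L 0) := fun j =>
    (L j).comap (L 0).subtype
  obtain ⟨j, hj⟩ := IsArtinian.monotone_stabilizes (R := Localization.AtPrime P) (M := ↥(L 0))
    ⟨fun j => OrderDual.toDual (L' j), fun i k hik => OrderDual.toDual_le_toDual.mpr
      (Submodule.comap_mono (hL i k hik))⟩
  have hLj : L' j = L' (j + 1) := OrderDual.toDual.injective (hj (j + 1) (Nat.le_succ j))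
  -- a single denominator works
  have hone : ∀ g ∈ D j, ∃ s ∉ P, s • g ∈ D (j + 1) := by
    intro g hg
    have hmem : IsLocalizedModule.mk' ℓ g (1 : P.primeCompl) ∈ L j := ⟨g, hg, 1, rfl⟩
    have h0 : IsLocalizedModule.mk' ℓ g (1 : P.primeCompl) ∈ L 0 := hL 0 j (Nat.zero_le _) hmem
    have h' : (⟨_, h0⟩ : ↥(L 0)) ∈ L' (j + 1) := hLj ▸ hmem
    obtain ⟨g', hg', t, ht⟩ := h'
    obtain ⟨c, hc⟩ := (IsLocalizedModule.mk'_eq_mk'_iff ℓ g' g t 1).mp ht
    refine ⟨(c : R) * (t : R), fun h => ?_, ?_⟩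
    · exact (‹P.IsPrime›.mem_or_mem h).elim c.2 t.2
    · have hc' : (c : R) • (t : R) • g = (c : R) • g' := by simpa [Submonoid.smul_def] using hc
      rw [mul_smul, hc']
      exact Submodule.smul_mem _ _ hg'
  have hall : ∃ s ∉ P, ∀ g ∈ D j, s • g ∈ D (j + 1) := by
    obtain ⟨T, hT⟩ := IsNoetherian.noetherian (D j)
    choose! s hs hsg using hone
    refine ⟨∏ g ∈ T, s g, ?_, fun g hg => ?_⟩
    · intro h
      obtain ⟨g, hg, hgP⟩ := ‹P.IsPrime›.prod_mem_iff.mp h
      exact hs g (hT ▸ Submodule.subset_span hg) hgP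
    · rw [← hT] at hg
      induction hg using Submodule.span_induction with
      | mem g hg =>
        rw [← Finset.mul_prod_erase T s hg, mul_comm, mul_smul]
        exact Submodule.smul_mem _ _ (hsg g (hT ▸ Submodule.subset_span hg))
      | zero => rw [smul_zero]; exact Submodule.zero_mem _
      | add a b _ _ ha hb => rw [smul_add]; exact Submodule.add_mem _ ha hb
      | smul c a _ ha => rw [smul_comm]; exact Submodule.smul_mem _ _ ha
  obtain ⟨s, hs, hsD⟩ := hall
  refine hs (hP.1.2 ?_)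
  show s ∈ I
  rw [← hst (N + j) (by omega), mem_ann]
  intro x hx
  by_contra hne
  obtain ⟨ψ, hψ⟩ := InjHull.Matlis.exists_apply_ne_zero hf
    (G := M ⧸ K φ hφ (N + j)) (x := Submodule.Quotient.mk (s • x))
    (fun h => hne ((Submodule.Quotient.mk_eq_zero _).mp h))
  have hg : ψ.comp (K φ hφ (N + j)).mkQ ∈ D j := fun y hy => by
    show ψ (Submodule.Quotient.mk y) = 0
    rw [(Submodule.Quotient.mk_eq_zero _).mpr hy, map_zero]
  refine hψ ?_
  have := hsD _ hg x hx
  rwa [LinearMap.smul_apply, ← map_smul] at this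

end Groth.Agent.HSLNil
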